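import Mathlib
import Cfsg.Agent.Lib.Hall.Basic
import Cfsg.Agent.Lib.Core.PiCore

/-!
Three conjugates of a Hall π-subgroup of a π-solvable group meet in `O_π(G)`, given the two-point
theorem for solvable groups acting coprimely.
-/

set_option autoImplicit false
set_option linter.style.haveILetI false
set_option linter.unusedSectionVars false

open Pointwise

namespace Cfsg.Agent.Lib.ThreeConj

open Cfsg
open Cfsg.Agent.Lib
open Cfsg.Agent.Lib.Hall (IsPiNumber)

universe u

/-- The two-point statement for coprime solvable actions, on groups of one universe. -/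
def TwoPoint : Prop :=
  ∀ (A : Type u) (K : Type u) [Group A] [Finite A] [Group K] [Finite K] [MulDistribMulAction A K]
    [FaithfulSMul A K], Group.IsSolvable A → (Nat.card A).Coprime (Nat.card K) →
      ∃ x y : K, ∀ a : A, a • x = x → a • y = y → a = 1

/-- A step of a π-solvable chain. -/
def Step (π : Set ℕ) (m : ℕ) : Prop :=
  (∃ p ∈ π, p.Prime ∧ ∃ k : ℕ, m = p ^ k) ∨ ∀ q : ℕ, q.Prime → q ∣ m → q ∉ π

theorem Step.of_dvd {π : Set ℕ} {m n : ℕ} (h : Step π n) (hd : m ∣ n) : Step π m := by
  rcases h with ⟨p, hpπ, hp, k, rfl⟩ | h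
  · obtain ⟨j, -, rfl⟩ := (Nat.dvd_prime_pow hp).mp hd
    exact Or.inl ⟨p, hpπ, hp, j, rfl⟩
  · exact Or.inr fun q hq hqm => h q hq (hqm.trans hd)

variable {G : Type u} [Group G] [Finite G] {π : Set ℕ}

theorem relIndex_map_dvd {Q : Type*} [Group Q] (f : G →* Q) (A B : Subgroup G) :
    (A.map f).relIndex (B.map f) ∣ A.relIndex B := by
  have hs : Function.Surjective (f.subgroupMap B) := f.subgroupMap_surjective B
  refine dvd_trans ?_ (Subgroup.index_map_dvd (H := A.subgroupOf B) hs)
  refine Subgroup.index_dvd_of_le ?_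
  rintro _ ⟨b, hb, rfl⟩
  exact ⟨(b : G), hb, rfl⟩

theorem relIndex_dvd_of_le_right {A B B' : Subgroup G} [A.Normal] (hB : B' ≤ B) :
    A.relIndex B' ∣ A.relIndex B := by
  have h := Subgroup.relIndex_dvd_index_of_normal (H := A.subgroupOf B) (B'.subgroupOf B)
  rwa [Subgroup.relIndex_subgroupOf hB] at h

/-- A Hall π-subgroup of a π-solvable group is solvable. -/
theorem isSolvable_hall {n : ℕ} (N : Fin (n + 1) → Subgroup G) (h0 : N 0 = ⊥)
    (hl : N (Fin.last n) = ⊤) (hN : ∀ i, (N i).Normal)
    (hstep : ∀ i : Fin n, Step π ((N i.castSucc).relIndex (N i.succ))) (H : Subgroup G)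
    (hH : IsPiNumber π (Nat.card H)) : Group.IsSolvable ↥H := by
  suffices key : ∀ i, Group.IsSolvable ↥(N i ⊓ H) by
    have := key (Fin.last n)
    rwa [hl, top_inf_eq] at this
  intro i
  induction i using Fin.induction with
  | zero =>
    rw [h0, bot_inf_eq]
    infer_instance
  | succ i ih =>
    haveI := hN i.castSucc
    haveI := ih
    set B : Subgroup G := N i.succ ⊓ H with hB
    set A : Subgroup B := (N i.castSucc).subgroupOf B with hA
    have hd : A.index ∣ (N i.castSucc).relIndex (N i.succ) := relIndex_dvd_of_le_right inf_le_left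
    have hcard : A.index ∣ Nat.card H :=
      A.index_dvd_card.trans (Subgroup.card_dvd_of_le inf_le_right)
    haveI : Group.IsSolvable (B ⧸ A) := by
      rcases (hstep i).of_dvd hd with ⟨p, -, hp, k, hk⟩ | hq
      · haveI : Fact p.Prime := ⟨hp⟩
        haveI : Group.IsNilpotent (B ⧸ A) :=
          (IsPGroup.of_card (n := k) (by rw [← Subgroup.index_eq_card, hk])).isNilpotent
        infer_instance
      · have h1 : A.index = 1 := by
          by_contra hne
          obtain ⟨q, hq', hqd⟩ := Nat.exists_prime_and_dvd hne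
          exact hq q hq' hqd (hH q hq' (hqd.trans hcard))
        haveI : Subsingleton (B ⧸ A) := by
          rw [Subgroup.index_eq_card] at h1
          exact (Nat.card_eq_one_iff_unique.mp h1).1
        infer_instance
    haveI : Group.IsSolvable A := by
      let f : A →* ↥(N i.castSucc ⊓ H) :=
        (B.subtype.comp A.subtype).codRestrict _ fun a =>
          ⟨Subgroup.mem_subgroupOf.mp a.2, (inf_le_right : B ≤ H) (a : B).2⟩
      refine Group.isSolvable_of_isSolvable_injective (f := f) fun a b h => ?_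
      exact Subtype.ext (Subtype.ext (congrArg (fun z => ((z : ↥(N i.castSucc ⊓ H)) : G)) h))
    exact Group.isSolvable_of_ker_le_range A.subtype (QuotientGroup.mk' A)
      (by rw [QuotientGroup.ker_mk', Subgroup.range_subtype])

/-- In a π-solvable group without a nontrivial normal π-subgroup the `π'`-core is self-centralizing. -/
theorem centralizer_le {n : ℕ} (N : Fin (n + 1) → Subgroup G) (h0 : N 0 = ⊥)
    (hl : N (Fin.last n) = ⊤) (hN : ∀ i, (N i).Normal)
    (hstep : ∀ i : Fin n, Step π ((N i.castSucc).relIndex (N i.succ)))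
    (hbot : piCore π G = ⊥) :
    Subgroup.centralizer (piCore πᶜ G : Set G) ≤ piCore πᶜ G := by
  set K := piCore πᶜ G with hK
  set L := Subgroup.centralizer (K : Set G) with hL
  suffices key : ∀ i, N i ⊓ L ≤ K by
    have := key (Fin.last n)
    rwa [hl, top_inf_eq] at this
  intro i
  induction i using Fin.induction with
  | zero => simp [h0]
  | succ i ih =>
    haveI := hN i.castSucc
    haveI := hN i.succ
    set M : Subgroup G := N i.succ ⊓ L with hM
    haveI : L.Normal := Subgroup.normal_centralizer (H := K)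
    haveI : M.Normal := Subgroup.normal_inf_normal _ _
    set Z : Subgroup M := K.subgroupOf M with hZ
    have hZc : Z ≤ Subgroup.center M := fun z hz => Subgroup.mem_center_iff.mpr fun m =>
      Subtype.ext ((Subgroup.mem_centralizer_iff.mp ((inf_le_right : M ≤ L) m.2)) (z : G)
        (Subgroup.mem_subgroupOf.mp hz)).symm
    have hd : Z.index ∣ (N i.castSucc).relIndex (N i.succ) := by
      refine dvd_trans ?_ (relIndex_dvd_of_le_right (A := N i.castSucc) (B' := M) inf_le_left)
      refine Subgroup.index_dvd_of_le fun m hm => ?_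
      exact ih ⟨Subgroup.mem_subgroupOf.mp hm, (inf_le_right : M ≤ L) m.2⟩
    have hcard : Nat.card M = Nat.card Z * Z.index := Z.card_mul_index.symm
    have hZpi : IsPiNumber πᶜ (Nat.card Z) := by
      refine (PiCore.isPiNumber_piCore (π := πᶜ) (G := G)).of_dvd ?_
      exact (Subgroup.card_comap_dvd_of_injective K M.subtype M.subtype_injective)
    rcases (hstep i).of_dvd hd with ⟨p, hpπ, hp, k, hk⟩ | hq
    · haveI : Fact p.Prime := ⟨hp⟩
      haveI : Group.IsNilpotent (M ⧸ Z) :=
        (IsPGroup.of_card (n := k) (by rw [← Subgroup.index_eq_card, hk])).isNilpotent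
      haveI : Group.IsNilpotent M :=
        Subgroup.isNilpotent_of_ker_le_center (QuotientGroup.mk' Z)
          (by rw [QuotientGroup.ker_mk']; exact hZc)
      let P : Sylow p M := default
      haveI hPn : (P : Subgroup M).Normal :=
        by
          have h03 : Group.IsNilpotent M → ∀ (q : ℕ) (_ : Fact q.Prime) (Q : Sylow q M),
              (Q : Subgroup M).Normal :=
            ((Group.isNilpotent_of_finite_tfae (G := M)).out 0 3 rfl rfl).mp
          exact h03 inferInstance p ⟨hp⟩ P
      obtain ⟨a, ha⟩ := P.2.exists_card_eq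
      haveI hPc : (P : Subgroup M).Characteristic := Sylow.characteristic_of_normal P hPn
      haveI : ((P : Subgroup M).map M.subtype).Normal :=
        ConjAct.normal_of_characteristic_of_normal
      have hle : (P : Subgroup M).map M.subtype ≤ piCore π G := PiCore.le_piCore
        (Hall.isPiNumber_map (π := π) (ha ▸ Hall.isPiNumber_pow_prime hp hpπ a) M.subtype)
      rw [hbot, le_bot_iff,
        Subgroup.map_eq_bot_iff_of_injective _ M.subtype_injective] at hle
      have hnd : ¬ p ∣ Nat.card M := by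
        intro hd'
        have hc : p ^ 1 ∣ Nat.card (P : Subgroup M) :=
          P.pow_dvd_card_of_pow_dvd_card (by simpa using hd')
        rw [hle, Subgroup.card_bot, pow_one] at hc
        exact hp.not_dvd_one hc
      have hk0 : Z.index = 1 := by
        rcases Nat.eq_zero_or_pos k with rfl | hk0
        · simpa using hk
        · exact absurd (hcard ▸ dvd_mul_of_dvd_right (hk ▸ dvd_pow_self p hk0.ne') _) hnd
      intro m hm
      have := Subgroup.index_eq_one.mp hk0 ▸ Subgroup.mem_top (⟨m, hm⟩ : M)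
      exact Subgroup.mem_subgroupOf.mp this
    · exact PiCore.le_piCore (π := πᶜ) (hcard ▸ hZpi.mul fun q hq' hqd => hq q hq' hqd)

/-- The case `O_π(G) = 1`. -/
theorem exists_inf_bot (htp : TwoPoint.{u}) {n : ℕ} (N : Fin (n + 1) → Subgroup G) (h0 : N 0 = ⊥)
    (hl : N (Fin.last n) = ⊤) (hN : ∀ i, (N i).Normal)
    (hstep : ∀ i : Fin n, Step π ((N i.castSucc).relIndex (N i.succ)))
    (hbot : piCore π G = ⊥) (H : Subgroup G) (hH : IsPiNumber π (Nat.card H)) :
    ∃ x y : G, ∀ h ∈ H, x⁻¹ * h * x ∈ H → y⁻¹ * h * y ∈ H → h = 1 := by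
  set K := piCore πᶜ G with hK
  have hKn : IsPiNumber πᶜ (Nat.card K) := PiCore.isPiNumber_piCore
  letI : MulDistribMulAction ↥H ↥K :=
    MulDistribMulAction.compHom _ ((MulAut.conjNormal : G →* MulAut K).comp H.subtype)
  have hsmul : ∀ (h : H) (k : K), ((h • k : K) : G) = (h : G) * k * (h : G)⁻¹ := fun h k =>
    MulAut.conjNormal_apply (h : G) k
  have hcop : (Nat.card H).Coprime (Nat.card K) := Hall.IsPiNumber.coprime hH hKn
  have hmeet : ∀ z, z ∈ H → z ∈ K → z = 1 := fun z h1 h2 =>
    Subgroup.mem_bot.mp (Subgroup.inf_eq_bot_of_coprime hcop ▸ Subgroup.mem_inf.mpr ⟨h1, h2⟩)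
  haveI : FaithfulSMul ↥H ↥K := ⟨fun {a b} hab => by
    have hc : ((b⁻¹ * a : H) : G) ∈ Subgroup.centralizer (K : Set G) :=
      Subgroup.mem_centralizer_iff.mpr fun k hk => by
        have h1 := congrArg (fun z : K => (z : G)) (congrArg (b⁻¹ • ·) (hab ⟨k, hk⟩))
        simp only [← mul_smul, inv_mul_cancel, one_smul, hsmul] at h1
        exact (mul_inv_eq_iff_eq_mul.mp h1).symm
    have h1 : (b⁻¹ * a : H) = 1 :=
      Subtype.ext (hmeet _ (b⁻¹ * a : H).2 (centralizer_le N h0 hl hN hstep hbot hc))
    exact (inv_mul_eq_one.mp h1).symm⟩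
  obtain ⟨x, y, hxy⟩ := htp ↥H ↥K (isSolvable_hall N h0 hl hN hstep H hH) hcop
  refine ⟨x, y, fun h hh hx hy => ?_⟩
  have fix_ : ∀ z : K, (z : G)⁻¹ * h * z ∈ H → (⟨h, hh⟩ : H) • z = z := by
    intro z hz
    have hin : h⁻¹ * ((z : G)⁻¹ * h * z) ∈ K := by
      have : h⁻¹ * ((z : G)⁻¹ * h * z) = h⁻¹ * (z : G)⁻¹ * (h⁻¹)⁻¹ * z := by group
      rw [this]
      exact mul_mem ((Cfsg.piCore_normal πᶜ G).conj_mem _ (inv_mem z.2) _) z.2
    have h1 := hmeet _ (mul_mem (inv_mem hh) hz) hin
    rw [inv_mul_eq_one] at h1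
    refine Subtype.ext ?_
    rw [hsmul, mul_inv_eq_iff_eq_mul]
    change h * (z : G) = (z : G) * h
    conv_rhs => rw [h1]
    group
  exact congrArg (fun z : H => (z : G)) (hxy ⟨h, hh⟩ (fix_ x hx) (fix_ y hy))

theorem exists_inf_eq (htp : TwoPoint.{u}) {n : ℕ} (N : Fin (n + 1) → Subgroup G) (h0 : N 0 = ⊥)
    (hl : N (Fin.last n) = ⊤) (hN : ∀ i, (N i).Normal)
    (hstep : ∀ i : Fin n, Step π ((N i.castSucc).relIndex (N i.succ)))
    (H : Subgroup G) (hH : IsPiHall π H) :
    ∃ x y : G, H ⊓ MulAut.conj x • H ⊓ MulAut.conj y • H = piCore π G := by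
  set O := piCore π G with hO
  have hOH : O ≤ H := PiCore.piCore_le_of_isPiHall hH
  have hf : Function.Surjective (QuotientGroup.mk' O) := QuotientGroup.mk'_surjective O
  obtain ⟨a, b, hab⟩ := exists_inf_bot htp (fun i => (N i).map (QuotientGroup.mk' O))
    (by simp [h0]) (by simp [hl, Subgroup.map_top_of_surjective _ hf])
    (fun i => (hN i).map _ hf) (fun i => (hstep i).of_dvd (relIndex_map_dvd _ _ _))
    PiCore.piCore_quotient_eq_bot (H.map (QuotientGroup.mk' O))
    (Hall.isPiNumber_map hH.1 _)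
  obtain ⟨x, rfl⟩ := hf a
  obtain ⟨y, rfl⟩ := hf b
  refine ⟨x, y, le_antisymm (fun g hg => ?_) (le_inf (le_inf hOH ?_) ?_)⟩
  · obtain ⟨⟨hgH, hgx⟩, hgy⟩ := hg
    change g ∈ MulAut.conj x • H at hgx
    change g ∈ MulAut.conj y • H at hgy
    rw [Subgroup.mem_pointwise_smul_iff_inv_smul_mem] at hgx hgy
    simp only [← map_inv, MulAut.smul_def, MulAut.conj_apply, inv_inv] at hgx hgy
    have h1 := hab (QuotientGroup.mk' O g) (Subgroup.mem_map_of_mem _ hgH)
      (by simpa using Subgroup.mem_map_of_mem (QuotientGroup.mk' O) hgx)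
      (by simpa using Subgroup.mem_map_of_mem (QuotientGroup.mk' O) hgy)
    exact (QuotientGroup.eq_one_iff g).mp h1
  · intro g hg
    rw [Subgroup.mem_pointwise_smul_iff_inv_smul_mem, ← map_inv, MulAut.smul_def,
      MulAut.conj_apply]
    exact hOH ((inferInstance : O.Normal).conj_mem g hg _)
  · intro g hg
    rw [Subgroup.mem_pointwise_smul_iff_inv_smul_mem, ← map_inv, MulAut.smul_def,
      MulAut.conj_apply]
    exact hOH ((inferInstance : O.Normal).conj_mem g hg _)

end Cfsg.Agent.Lib.ThreeConj
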